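import Mathlib
import Groth.Agent.RatliffLib.Formal
import Groth.Agent.CMCat.ComplQuot

/-!
Colon ideals and approximation in completions.
-/

set_option autoImplicit false

universe u

open IsLocalRing TensorProduct

namespace Groth.Agent.RatliffLib

/-- Colon ideals commute with flat base change. -/
theorem mem_map_colon_of_flat {A S : Type u} [CommRing A] [CommRing S] [Algebra A S] [Module.Flat A S]
    (J : Ideal A) {n : ℕ} (g : Fin n → A) (t : S) (ht : ∀ i, algebraMap A S (g i) * t ∈ J.map (algebraMap A S)) :
    t ∈ (J.colon (Ideal.span (Set.range g) : Set A)).map (algebraMap A S) := by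
  classical
  let f : A →ₗ[A] (Fin n → A ⧸ J) := LinearMap.pi fun i => (Submodule.mkQ J).comp (LinearMap.mulLeft A (g i))
  have hker : LinearMap.ker f = J.colon (Ideal.span (Set.range g) : Set A) := by
    rw [Submodule.colon_span]
    ext a
    rw [LinearMap.mem_ker, Submodule.mem_colon]
    refine ⟨fun h y ⟨i, hi⟩ => ?_, fun h => funext fun i => ?_⟩
    · have h1 : Submodule.Quotient.mk (g i * a) = (0 : A ⧸ J) := congrFun h i
      rw [Submodule.Quotient.mk_eq_zero] at h1
      rw [← hi, smul_eq_mul, mul_comm]
      exact h1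
    · show Submodule.Quotient.mk (g i * a) = (0 : A ⧸ J)
      rw [Submodule.Quotient.mk_eq_zero, mul_comm]
      exact h (g i) ⟨i, rfl⟩
  have hzero : f.lTensor S (t ⊗ₜ 1) = 0 := by
    apply (TensorProduct.piRight A A S (fun _ : Fin n => A ⧸ J)).injective
    rw [map_zero]
    funext i
    rw [LinearMap.lTensor_tmul, TensorProduct.piRight_apply, TensorProduct.piRightHom_tmul, Pi.zero_apply]
    apply (TensorProduct.tensorQuotEquivQuotSMul S J).injective
    rw [map_zero]
    show TensorProduct.tensorQuotEquivQuotSMul S J (t ⊗ₜ Ideal.Quotient.mk J (g i * 1)) = 0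
    rw [mul_one]
    erw [TensorProduct.tensorQuotEquivQuotSMul_tmul_mk]
    rw [Submodule.Quotient.mk_eq_zero, Ideal.smul_top_eq_map, Submodule.restrictScalars_mem, Algebra.smul_def]
    exact ht i
  obtain ⟨w, hw⟩ := ((Module.Flat.lTensor_exact S (LinearMap.exact_subtype_ker_map f)) _).1 hzero
  have h2 : ∀ w : S ⊗[A] LinearMap.ker f,
      TensorProduct.rid A S ((LinearMap.ker f).subtype.lTensor S w) ∈
        (J.colon (Ideal.span (Set.range g) : Set A)).map (algebraMap A S) := by
    intro w
    induction w using TensorProduct.induction_on with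
    | zero => simp
    | tmul s a =>
      rw [LinearMap.lTensor_tmul, TensorProduct.rid_tmul, Algebra.smul_def]
      exact Ideal.mul_mem_right _ _ (Ideal.mem_map_of_mem _ (hker.le a.2))
    | add x y hx hy => rw [map_add, map_add]; exact add_mem hx hy
  have h3 := h2 w
  rwa [hw, TensorProduct.rid_tmul, one_smul] at h3

section Compl

variable {A : Type u} [CommRing A] [IsLocalRing A] [IsNoetherianRing A]

theorem exists_approx (N : ℕ) (a : AdicCompletion (maximalIdeal A) A) :
    ∃ r : A, a - algebraMap A _ r ∈ ((maximalIdeal A) ^ N).map (algebraMap A (AdicCompletion (maximalIdeal A) A)) := by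
  obtain ⟨r, hr⟩ := Ideal.Quotient.mk_surjective (AdicCompletion.evalₐ (maximalIdeal A) N a)
  refine ⟨r, ?_⟩
  rw [← CMCat.evalₐ_eq_zero_iff (maximalIdeal A).fg_of_isNoetherianRing, map_sub,
    AlgHom.commutes, ← hr, Ideal.Quotient.algebraMap_eq, sub_self]

/-- An element of the extended colon ideal is an element of the colon ideal up to a small multiple of `y`. -/
theorem exists_colon_approx (y : A) (k : ℕ) (t : AdicCompletion (maximalIdeal A) A)
    (ht : ∀ w ∈ maximalIdeal A ^ k, algebraMap A _ w * t ∈
      (Ideal.span {y}).map (algebraMap A (AdicCompletion (maximalIdeal A) A))) :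
    ∃ (t₀ : A) (a : AdicCompletion (maximalIdeal A) A),
      a ∈ ((maximalIdeal A) ^ (k + 1)).map (algebraMap A (AdicCompletion (maximalIdeal A) A)) ∧
        t = algebraMap A _ t₀ + algebraMap A _ y * a := by
  obtain ⟨nn, g, hg⟩ := Submodule.fg_iff_exists_fin_generating_family.1 (IsNoetherian.noetherian (maximalIdeal A ^ k))
  have hg' : Ideal.span (Set.range g) = maximalIdeal A ^ k := hg
  have htD := mem_map_colon_of_flat (S := AdicCompletion (maximalIdeal A) A) (Ideal.span {y}) g t fun i =>
    ht _ (hg' ▸ Ideal.subset_span ⟨i, rfl⟩)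
  rw [hg'] at htD
  clear ht
  obtain ⟨d, b, hb⟩ : ∃ (d : (Ideal.span {y}).colon (maximalIdeal A ^ k : Ideal A))
      (b : AdicCompletion (maximalIdeal A) A), t = algebraMap A _ d.1 + algebraMap A _ y * b := by
    induction htD using Submodule.span_induction with
    | mem z hz =>
      obtain ⟨d, hd, rfl⟩ := hz
      exact ⟨⟨d, hd⟩, 0, by ring⟩
    | zero => exact ⟨0, 0, by simp⟩
    | add z z' _ _ hz hz' =>
      obtain ⟨d, b, rfl⟩ := hz
      obtain ⟨d', b', rfl⟩ := hz'
      exact ⟨d + d', b + b', by rw [Submodule.coe_add, map_add]; ring⟩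
    | smul a z _ hz =>
      obtain ⟨⟨d, hd⟩, b, rfl⟩ := hz
      obtain ⟨r, hr⟩ := exists_approx k a
      have h1 : (a - algebraMap A _ r) * algebraMap A _ d ∈
          (Ideal.span {y}).map (algebraMap A (AdicCompletion (maximalIdeal A) A)) := by
        have h2 := Ideal.mul_mem_mul hr (Ideal.mem_map_of_mem (algebraMap A (AdicCompletion (maximalIdeal A) A)) hd)
        rw [← Ideal.map_mul] at h2
        refine Ideal.map_mono ?_ h2
        rw [Ideal.mul_le]
        intro u hu v hv
        have := Submodule.mem_colon.1 hv u hu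
        rwa [smul_eq_mul, mul_comm] at this
      rw [Ideal.map_span, Set.image_singleton, Ideal.mem_span_singleton] at h1
      obtain ⟨c, hc⟩ := h1
      refine ⟨⟨r * d, Ideal.mul_mem_left _ _ hd⟩, c + a * b, ?_⟩
      rw [smul_eq_mul, map_mul]
      linear_combination hc
  obtain ⟨r, hr⟩ := exists_approx (k + 1) b
  exact ⟨d.1 + y * r, b - algebraMap A _ r, hr, by rw [hb, map_add, map_mul]; ring⟩

end Compl

end Groth.Agent.RatliffLib
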