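import Mathlib
import Groth.Agent.RatliffLib.UnivCat

/-!
Heights of maximal ideals of simple finite birational extensions of universally catenary domains.
-/

set_option autoImplicit false

universe u

open IsLocalRing Order

namespace Groth.Agent.RatliffLib

theorem dim_le_height_of_polynomial {A : Type u} [CommRing A] [IsLocalRing A] [IsNoetherianRing A] [IsDomain A]
    (hA : CAlg.IsUniversallyCatenary A) (q N : Ideal (Polynomial A)) [hq : q.IsPrime] [hN : N.IsMaximal] (hqN : q ≤ N)
    (h0 : q.comap (Polynomial.C : A →+* Polynomial A) = ⊥)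
    (hover : N.comap (Polynomial.C : A →+* Polynomial A) = maximalIdeal A) :
    ringKrullDim A ≤ ((N.map (Ideal.Quotient.mk q)).height : WithBot ℕ∞) := by
  haveI : (N.map (Ideal.Quotient.mk q)).IsMaximal :=
    Ideal.IsMaximal.map_of_surjective_of_ker_le Ideal.Quotient.mk_surjective (by rwa [Ideal.mk_ker])
  let L := Localization.AtPrime N
  haveI : IsNoetherianRing L := IsLocalization.isNoetherianRing N.primeCompl L inferInstance
  haveI : IsDomain L := IsLocalization.isDomain_of_atPrime (Localization.AtPrime N) N
  have hdisj : Disjoint (N.primeCompl : Set (Polynomial A)) q :=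
    Set.disjoint_left.2 fun f hf hf' => hf (hqN hf')
  let q' : Ideal L := q.map (algebraMap (Polynomial A) L)
  haveI hq'p : q'.IsPrime := IsLocalization.isPrime_of_isPrime_disjoint _ _ _ hq hdisj
  have heq : EGA4.IsEquidim L := fun s hs => by
    rw [IsDomain.minimalPrimes_eq_singleton_bot, Set.mem_singleton_iff] at hs
    rw [hs]
    exact ringKrullDim_eq_of_ringEquiv (RingEquiv.quotientBot _)
  have hcat : CAlg.IsCatenary L :=
    CatLib.isCatenary_of_isLocalization N.primeCompl (hA.2 (Polynomial A) inferInstance)
  have hkey := height_add_coheight heq hcat ⟨q', hq'p⟩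
  have hq1 : height (⟨q', hq'p⟩ : PrimeSpectrum L) ≤ 1 := by
    rw [← PrimeSpectrum.height_eq_orderHeight]
    show q'.height ≤ 1
    rw [IsLocalization.height_map_of_disjoint N.primeCompl q hdisj (S := L)]
    refine (CMCat.height_le_height_comap_add_one q).trans ?_
    rw [h0, Ideal.height_bot, zero_add]
  have hm1 : height (closedPoint A) + 1 ≤ height (closedPoint L) := by
    rw [← PrimeSpectrum.height_eq_orderHeight, ← PrimeSpectrum.height_eq_orderHeight]
    show (maximalIdeal A).height + 1 ≤ (maximalIdeal L).height
    rw [← IsLocalization.height_comap N.primeCompl (maximalIdeal L),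
      IsLocalization.AtPrime.comap_maximalIdeal L N]
    haveI : N.LiesOver (maximalIdeal A) := ⟨hover.symm⟩
    rw [Polynomial.height_eq_height_add_one (maximalIdeal A) N]
  have hquot : coheight (⟨q', hq'p⟩ : PrimeSpectrum L) = (N.map (Ideal.Quotient.mk q)).height := by
    apply WithBot.coe_injective
    rw [← CatLib.ringKrullDim_quotient_eq_coheight]
    have hsub : Algebra.algebraMapSubmonoid (Polynomial A ⧸ q) N.primeCompl =
        (N.map (Ideal.Quotient.mk q)).primeCompl := by
      ext y
      constructor
      · rintro ⟨z, hz, rfl⟩ hmem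
        rw [Ideal.Quotient.algebraMap_eq] at hmem
        have := (Ideal.mem_quotient_iff_mem_sup (I := q) (J := N)).1 hmem
        rw [sup_eq_left.2 hqN] at this
        exact hz this
      · intro hy
        obtain ⟨z, rfl⟩ := Ideal.Quotient.mk_surjective y
        exact ⟨z, fun hz => hy (Ideal.mem_map_of_mem _ hz), rfl⟩
    haveI : IsLocalization.AtPrime (L ⧸ q') (N.map (Ideal.Quotient.mk q)) := by
      show IsLocalization (N.map (Ideal.Quotient.mk q)).primeCompl _
      rw [← hsub]
      infer_instance
    exact IsLocalization.AtPrime.ringKrullDim_eq_height (N.map (Ideal.Quotient.mk q)) (L ⧸ q')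
  rw [dim_eq_height_closedPoint]
  refine WithBot.coe_le_coe.2 ?_
  rw [← hkey, hquot] at hm1
  have h2 : height (closedPoint A) + 1 ≤ 1 + (N.map (Ideal.Quotient.mk q)).height := hm1.trans (by gcongr)
  rw [add_comm (1 : ℕ∞)] at h2
  exact (ENat.add_le_add_iff_right (by simp)).1 h2

end Groth.Agent.RatliffLib
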