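import Mathlib

/-!
The quadratic extension `A[β]`, `β ^ 2 - β = c`.
-/

set_option autoImplicit false

universe u v

open IsLocalRing Polynomial

namespace Groth.Agent.RatliffLib

variable {A : Type u} [CommRing A] [IsLocalRing A] {K : Type v} [CommRing K] [Algebra A K]

/-- The maximal ideal `(m, X - 1)`. -/
theorem exists_residue_point : ∃ N : Ideal A[X], N.IsMaximal ∧
    N.comap (C : A →+* A[X]) = maximalIdeal A ∧ X ∉ N ∧
    ∀ f : A[X], f ∈ N ↔ f.eval₂ (residue A) 1 = 0 := by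
  refine ⟨RingHom.ker (eval₂RingHom (residue A) 1), RingHom.ker_isMaximal_of_surjective _ fun y => ?_,
    Ideal.ext fun r => ?_, fun h => ?_, fun f => Iff.rfl⟩
  · obtain ⟨a, rfl⟩ := residue_surjective y
    exact ⟨C a, eval₂_C _ _⟩
  · rw [Ideal.mem_comap, RingHom.mem_ker, coe_eval₂RingHom, eval₂_C, residue_eq_zero_iff]
  · rw [RingHom.mem_ker, coe_eval₂RingHom, eval₂_X] at h
    exact one_ne_zero h

theorem monic_quadratic (c : A) :
    (X ^ 2 - X - C c : A[X]).Monic ∧ (X ^ 2 - X - C c : A[X]).natDegree = 2 :=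
  ⟨by monicity!, by compute_degree!⟩

theorem quadratic_eval {β : K} {c : A} (hβ : β ^ 2 - β = algebraMap A K c) :
    aeval β (X ^ 2 - X - C c : A[X]) = 0 := by
  simp only [map_sub, map_pow, aeval_X, aeval_C, hβ, sub_self]

theorem ker_le_residue_point {β : K} {c : A} (hcm : c ∈ maximalIdeal A) (hβ : β ^ 2 - β = algebraMap A K c)
    (hlin : ∀ u v : A, algebraMap A K u * β + algebraMap A K v = 0 → u + v ∈ maximalIdeal A)
    (f : A[X]) (hf : aeval β f = 0) : f.eval₂ (residue A) 1 = 0 := by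
  obtain ⟨hmonic, hnd⟩ := monic_quadratic c
  have hdiv := modByMonic_add_div f (X ^ 2 - X - C c)
  have hdeg : (f %ₘ (X ^ 2 - X - C c)).natDegree ≤ 1 := by
    have h3 := natDegree_modByMonic_lt f hmonic (fun h => by rw [h, natDegree_one] at hnd; omega)
    rw [hnd] at h3
    exact Nat.le_of_lt_succ h3
  obtain ⟨u, v, huv⟩ := exists_eq_X_add_C_of_natDegree_le_one hdeg
  rw [huv] at hdiv
  have h1 := congrArg (aeval β) hdiv
  rw [map_add, map_mul, quadratic_eval hβ, zero_mul, add_zero, hf, map_add, map_mul, aeval_C, aeval_C, aeval_X] at h1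
  have h2 : (residue A) u + (residue A) v = 0 := by
    rw [← map_add]; exact (residue_eq_zero_iff _).2 (hlin u v h1)
  rw [← hdiv]
  simp only [eval₂_add, eval₂_mul, eval₂_C, eval₂_X, eval₂_sub, eval₂_pow, (residue_eq_zero_iff c).2 hcm,
    one_pow, mul_one, sub_self, sub_zero, zero_mul, add_zero, h2]

omit [IsLocalRing A] in
theorem finite_quotient_of_monic (q : Ideal A[X]) {g : A[X]} (hg : g.Monic) (hgq : g ∈ q) :
    Module.Finite A (A[X] ⧸ q) := by
  haveI := hg.finite_adjoinRoot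
  let π : AdjoinRoot g →ₐ[A] A[X] ⧸ q :=
    Ideal.Quotient.liftₐ _ (Ideal.Quotient.mkₐ A q) (fun f hf => by
      obtain ⟨r, rfl⟩ := Ideal.mem_span_singleton.1 hf
      exact Ideal.Quotient.eq_zero_iff_mem.2 (Ideal.mul_mem_right _ _ hgq))
  exact Module.Finite.of_surjective π.toLinearMap fun b => by
    obtain ⟨f, rfl⟩ := Ideal.Quotient.mk_surjective b
    exact ⟨AdjoinRoot.mk _ f, rfl⟩

end Groth.Agent.RatliffLib
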