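import Mathlib
import Groth.Agent.RatliffLib.Formal

/-!
An upper bound for the height of a maximal ideal, read off from a faithfully flat extension.
-/

set_option autoImplicit false

universe u

open IsLocalRing Order TensorProduct

namespace Groth.Agent.RatliffLib

theorem not_mem_minimal_of_flat {B T : Type u} [CommRing B] [IsDomain B] [CommRing T] [Algebra B T] [Module.Flat B T]
    {Q : Ideal T} (hQ : Q ∈ minimalPrimes T) {x : B} (hx : x ≠ 0) : algebraMap B T x ∉ Q := fun hmem => by
  have hreg := Module.Flat.isSMulRegular_of_nonZeroDivisors (M := T) (mem_nonZeroDivisors_of_ne_zero hx)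
  refine Set.disjoint_left.1 (Ideal.disjoint_nonZeroDivisors_of_mem_minimalPrimes hQ) hmem
    (mem_nonZeroDivisors_iff_right.2 fun z hz => hreg (Eq.trans ?_ (smul_zero _).symm))
  show x • z = 0
  rw [Algebra.smul_def, mul_comm, hz]

theorem exists_prime_over {A B T : Type u} [CommRing A] [IsLocalRing A] [CommRing B] [CommRing T] [Algebra A B]
    [Algebra B T] [Module.FaithfullyFlat B T] (n : Ideal B) [hn : n.IsPrime] :
    ∃ N : Ideal T, ∃ _ : N.IsPrime, N.comap (algebraMap B T) = n := by
  obtain ⟨⟨N, hNp⟩, hN⟩ := PrimeSpectrum.comap_surjective_of_faithfullyFlat (A := B) (B := T) ⟨n, hn⟩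
  exact ⟨N, hNp, congrArg PrimeSpectrum.asIdeal hN⟩

/-- The comparison map to the finite extension. -/
theorem height_le_one_aux {A S B T : Type u} [CommRing A] [CommRing S] [IsLocalRing S] [CommRing B] [IsDomain B]
    [CommRing T] [Algebra A S] [Algebra A B] [Algebra S T] [Algebra B T] [Algebra A T]
    [IsScalarTower A S T] [IsScalarTower A B T] [Module.Flat B T] [Algebra.IsIntegral S T]
    (P : Ideal S) [P.IsPrime] (hP : coheight (⟨P, ‹P.IsPrime›⟩ : PrimeSpectrum S) ≤ 1) (M : ℕ)
    (x t₀ : A) (hx : algebraMap A B x ≠ 0) (b : B) (hb : b * algebraMap A B x = algebraMap A B t₀)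
    (t a : S) (hta : t = algebraMap A S t₀ + algebraMap A S x * a) (hPt : ∀ y ∈ P ^ M, y * t = 0)
    (N : Ideal T) [N.IsPrime] (hbN : algebraMap B T b ∉ N) (haN : algebraMap S T a ∈ N) : N.height ≤ 1 := by
  rw [show N.height = Order.height (⟨N, ‹N.IsPrime›⟩ : PrimeSpectrum T) from
    PrimeSpectrum.height_eq_orderHeight (⟨N, ‹N.IsPrime›⟩ : PrimeSpectrum T)]
  refine Order.height_le fun l hl => ?_
  have hφ : StrictMono (PrimeSpectrum.comap (algebraMap S T)) := fun Q Q' h => by
    obtain ⟨y, hy, hy'⟩ := SetLike.exists_of_lt (show Q.asIdeal < Q'.asIdeal from h)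
    exact Ideal.comap_lt_comap_of_integral_mem_sdiff h.le ⟨hy, hy'⟩ (Algebra.IsIntegral.isIntegral y)
  obtain ⟨Q, hQ, hQle⟩ := Ideal.exists_minimalPrimes_le (I := (⊥ : Ideal T)) (J := l.head.asIdeal) bot_le
  have hQN : Q ≤ N := hQle.trans (by
    have := l.head_le_last
    rw [hl] at this
    exact this)
  have hxQ : algebraMap A T x ∉ Q := by
    rw [IsScalarTower.algebraMap_apply A B T]
    exact not_mem_minimal_of_flat hQ hx
  have htQ : algebraMap S T t ∉ Q := by
    intro htQ
    have hbT := congrArg (algebraMap B T) hb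
    rw [map_mul, ← IsScalarTower.algebraMap_apply A B T, ← IsScalarTower.algebraMap_apply A B T] at hbT
    rw [hta, map_add, map_mul, ← IsScalarTower.algebraMap_apply A S T, ← IsScalarTower.algebraMap_apply A S T,
      ← hbT, mul_comm (algebraMap A T x) (algebraMap S T a), ← add_mul] at htQ
    exact hbN ((Ideal.add_mem_iff_left _ haN).1 (hQN ((hQ.1.1.mem_or_mem htQ).resolve_right hxQ)))
  have hPQ : P ^ M ≤ Q.comap (algebraMap S T) := fun y hy => by
    refine (hQ.1.1.mem_or_mem ?_).resolve_right htQ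
    rw [← map_mul, hPt y hy, map_zero]
    exact Q.zero_mem
  have hbot : (⟨P, ‹P.IsPrime›⟩ : PrimeSpectrum S) ≤ PrimeSpectrum.comap (algebraMap S T) l.head := fun y hy =>
    hQle ((Ideal.IsPrime.comap (algebraMap S T) (hK := hQ.1.1)).le_of_pow_le hPQ hy)
  have h1 : ((l.map _ hφ).length : ℕ∞) ≤ coheight (l.map _ hφ).head := length_le_coheight_head
  rw [LTSeries.head_map] at h1
  exact (h1.trans (coheight_anti hbot)).trans hP

/-- Height bound in a finite extension `B` of `A`, through `S ⊗ B`. -/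
theorem height_le_one {A S B : Type u} [CommRing A] [IsLocalRing A] [IsNoetherianRing A] [CommRing S] [IsLocalRing S]
    [IsNoetherianRing S] [Algebra A S] [Module.FaithfullyFlat A S]
    (hmS : maximalIdeal S = (maximalIdeal A).map (algebraMap A S))
    [CommRing B] [IsDomain B] [IsNoetherianRing B] [Algebra A B] [Module.Finite A B]
    (P : Ideal S) [hPp : P.IsPrime] (hP : coheight (⟨P, hPp⟩ : PrimeSpectrum S) ≤ 1) (M : ℕ)
    (x t₀ : A) (hx : algebraMap A B x ≠ 0) (b : B) (hb : b * algebraMap A B x = algebraMap A B t₀)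
    (t a : S) (hta : t = algebraMap A S t₀ + algebraMap A S x * a) (ha : a ∈ maximalIdeal S)
    (hPt : ∀ y ∈ P ^ M, y * t = 0)
    (n : Ideal B) [n.IsPrime] (hn : (maximalIdeal A).map (algebraMap A B) ≤ n) (hbn : b ∉ n) : n.height ≤ 1 := by
  letI : Algebra B (S ⊗[A] B) := Algebra.TensorProduct.rightAlgebra
  haveI : Module.FaithfullyFlat B (S ⊗[A] B) :=
    Module.FaithfullyFlat.of_linearEquiv B (B ⊗[A] S)
      (Algebra.IsPushout.equiv A B S (S ⊗[A] B)).toLinearEquiv.symm
  haveI : IsNoetherianRing (S ⊗[A] B) := IsNoetherianRing.of_finite S (S ⊗[A] B)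
  haveI : Algebra.IsIntegral S (S ⊗[A] B) := Algebra.IsIntegral.of_finite S (S ⊗[A] B)
  obtain ⟨N, _, hN⟩ := exists_prime_over (A := A) (T := S ⊗[A] B) n
  haveI : N.LiesOver n := ⟨hN.symm⟩
  have haN : algebraMap S (S ⊗[A] B) a ∈ N := by
    have hle : maximalIdeal S ≤ N.comap (algebraMap S (S ⊗[A] B)) := by
      rw [hmS, Ideal.map_le_iff_le_comap]
      intro r hr
      show algebraMap S (S ⊗[A] B) (algebraMap A S r) ∈ N
      rw [← IsScalarTower.algebraMap_apply A S (S ⊗[A] B), IsScalarTower.algebraMap_apply A B (S ⊗[A] B),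
        ← Ideal.mem_comap, hN]
      exact hn (Ideal.mem_map_of_mem _ hr)
    exact hle ha
  have h1 := height_le_one_aux (T := S ⊗[A] B) P hP M x t₀ hx b hb t a hta hPt N
    (fun h => hbn (hN ▸ h)) haN
  rw [Ideal.height_eq_height_add_of_liesOver_of_hasGoingDown n N] at h1
  exact le_self_add.trans h1

end Groth.Agent.RatliffLib
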