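import Mathlib
import Groth.Agent.RatliffLib.Converse.Colon
import Groth.Agent.RatliffLib.Converse.Lower
import Groth.Agent.RatliffLib.Converse.Upper
import Groth.Agent.RatliffLib.Converse.Quadratic

/-!
A component of dimension one in the completion of a universally catenary local domain.
-/

set_option autoImplicit false

universe u

open IsLocalRing Order

namespace Groth.Agent.RatliffLib

/-- Split the nilradical along a minimal prime of coheight one. -/
theorem exists_split {S : Type u} [CommRing S] [IsLocalRing S] [IsNoetherianRing S] (P : Ideal S) [hPp : P.IsPrime]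
    (hP : P ∈ minimalPrimes S) (h1 : coheight (⟨P, hPp⟩ : PrimeSpectrum S) ≤ 1) :
    ∃ (M k : ℕ) (J : Ideal S), 0 < M ∧ (∀ y ∈ P ^ M, ∀ z ∈ J, y * z = 0) ∧
      maximalIdeal S ^ k ≤ P ^ M ⊔ J := by
  classical
  have hfin : (minimalPrimes S).Finite := minimalPrimes.finite_of_isNoetherianRing S
  obtain ⟨others, hothers⟩ : ∃ o : Finset (Ideal S), o = hfin.toFinset.erase P := ⟨_, rfl⟩
  obtain ⟨M, hM⟩ : ∃ M : ℕ, (P * others.inf id) ^ M = ⊥ := by
    obtain ⟨M, hM⟩ := IsNoetherianRing.isNilpotent_nilradical S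
    refine ⟨M, le_bot_iff.1 ((Ideal.pow_right_mono ?_ M).trans hM.le)⟩
    rw [nilradical_eq_sInf]
    refine le_sInf fun Q hQ => ?_
    haveI : Q.IsPrime := hQ
    obtain ⟨P', hP', hle⟩ := Ideal.exists_minimalPrimes_le (I := (⊥ : Ideal S)) (J := Q) bot_le
    by_cases hPP : P' = P
    · exact Ideal.mul_le_left.trans (hPP ▸ hle)
    · exact Ideal.mul_le_right.trans ((Finset.inf_le (f := id)
        (hothers ▸ Finset.mem_erase.2 ⟨hPP, hfin.mem_toFinset.2 hP'⟩)).trans hle)
  have hrad : maximalIdeal S ≤ (P ^ M ⊔ others.inf id ^ M).radical := by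
    rw [Ideal.radical_eq_sInf]
    refine le_sInf fun Q hQ => ?_
    haveI := hQ.2
    have hPQ : P ≤ Q := hQ.2.le_of_pow_le (le_sup_left.trans hQ.1)
    have hJQ : others.inf id ≤ Q := hQ.2.le_of_pow_le (le_sup_right.trans hQ.1)
    obtain ⟨P', hP', hP'Q⟩ := (Ideal.IsPrime.inf_le' hQ.2).1 hJQ
    rw [hothers] at hP'
    obtain ⟨hne, hP'm⟩ := Finset.mem_erase.1 hP'
    have hlt : (⟨P, hPp⟩ : PrimeSpectrum S) < ⟨Q, hQ.2⟩ := lt_of_le_of_ne hPQ fun h => hne (by
      have hQP : Q = P := (congrArg PrimeSpectrum.asIdeal h).symm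
      exact le_antisymm (hQP ▸ hP'Q) (hP.2 ⟨((hfin.mem_toFinset).1 hP'm).1.1, bot_le⟩ (hQP ▸ hP'Q)))
    have h2 := (coheight_add_one_le hlt).trans h1
    obtain ⟨k, hk⟩ := ENat.ne_top_iff_exists.mp (CatLib.coheight_ne_top (⟨Q, hQ.2⟩ : PrimeSpectrum S))
    rw [← hk] at h2
    have h4 : k + 1 ≤ 1 := by exact_mod_cast h2
    have h3 : coheight (⟨Q, hQ.2⟩ : PrimeSpectrum S) = 0 := by
      rw [← hk, show k = 0 by omega]; rfl
    exact (coheight_eq_zero.1 h3) (b := closedPoint S) (le_maximalIdeal hQ.2.ne_top)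
  obtain ⟨k, hk⟩ := Ideal.exists_pow_le_of_le_radical_of_fg hrad (IsNoetherian.noetherian _)
  refine ⟨M, k, others.inf id ^ M, Nat.pos_of_ne_zero fun h0 => ?_, fun y hy z hz => ?_, hk⟩
  · rw [h0, pow_zero, Ideal.one_eq_top] at hM
    exact top_ne_bot hM
  have := Ideal.mul_mem_mul hy hz
  rwa [← mul_pow, hM, Ideal.mem_bot] at this

theorem algebraMap_not_mem_minimal {A S : Type u} [CommRing A] [IsDomain A] [CommRing S] [Algebra A S]
    [Module.Flat A S] {Q : Ideal S} (hQ : Q ∈ minimalPrimes S) {y : A} (hy : y ≠ 0) : algebraMap A S y ∉ Q :=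
  not_mem_minimal_of_flat hQ hy

theorem mem_nonZeroDivisors_algebraMap {A S : Type u} [CommRing A] [IsDomain A] [CommRing S] [Algebra A S]
    [Module.Flat A S] {y : A} (hy : y ≠ 0) : algebraMap A S y ∈ nonZeroDivisors S := by
  have hreg := Module.Flat.isSMulRegular_of_nonZeroDivisors (M := S) (mem_nonZeroDivisors_of_ne_zero hy)
  refine mem_nonZeroDivisors_iff_right.2 fun z hz => hreg (Eq.trans ?_ (smul_zero y).symm)
  show y • z = 0
  rw [Algebra.smul_def, mul_comm, hz]

/-- The data in the completion: an approximate idempotent over `1 / y`. -/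
theorem exists_approx_idempotent {A : Type u} [CommRing A] [IsLocalRing A] [IsNoetherianRing A] [IsDomain A]
    (P : Ideal (AdicCompletion (maximalIdeal A) A)) (hP : P ∈ minimalPrimes (AdicCompletion (maximalIdeal A) A))
    [hPp : P.IsPrime] (h1 : coheight (⟨P, hPp⟩ : PrimeSpectrum (AdicCompletion (maximalIdeal A) A)) ≤ 1)
    (x : A) (hx : x ∈ maximalIdeal A) (hx0 : x ≠ 0) :
    ∃ (M : ℕ) (y t₀ c : A) (t a : AdicCompletion (maximalIdeal A) A),
      y ≠ 0 ∧ c ∈ maximalIdeal A ∧ a ∈ (maximalIdeal A).map (algebraMap A (AdicCompletion (maximalIdeal A) A)) ∧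
      t = algebraMap A _ t₀ + algebraMap A _ y * a ∧ (∀ z ∈ P ^ M, z * t = 0) ∧
      t₀ ^ 2 - y * t₀ = y ^ 2 * c ∧ t * t = algebraMap A _ y * t ∧ t ∉ P := by
  obtain ⟨_, _, _, _, hmax⟩ := compl_facts A
  obtain ⟨M, k, J, hM, hzero, hk⟩ := exists_split P hP h1
  have hxk : algebraMap A _ (x ^ k) ∈ P ^ M ⊔ J := hk (by
    rw [hmax, ← Ideal.map_pow]; exact Ideal.mem_map_of_mem _ (Ideal.pow_mem_pow hx k))
  obtain ⟨s, hs, t, ht, hst⟩ := Submodule.mem_sup.1 hxk
  have htmul : ∀ w ∈ maximalIdeal (AdicCompletion (maximalIdeal A) A) ^ k,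
      w * t ∈ (Ideal.span {x ^ k}).map (algebraMap A (AdicCompletion (maximalIdeal A) A)) := by
    intro w hw
    obtain ⟨a, ha, b, hb, rfl⟩ := Submodule.mem_sup.1 (hk hw)
    rw [add_mul, hzero a ha t ht, zero_add, Ideal.map_span, Set.image_singleton, Ideal.mem_span_singleton]
    exact ⟨b, by rw [← hst, add_mul, hzero s hs b hb]; ring⟩
  obtain ⟨t₀, a, ha, hta⟩ := exists_colon_approx (x ^ k) k t fun w hw => htmul _ (by
    rw [hmax, ← Ideal.map_pow]; exact Ideal.mem_map_of_mem _ hw)
  have htt : t * t = algebraMap A _ (x ^ k) * t := by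
    rw [← hst, add_mul, hzero s hs t ht, zero_add]
  have hy : x ^ k ≠ 0 := pow_ne_zero _ hx0
  -- the constant
  obtain ⟨z, hz, hzt⟩ : ∃ z ∈ maximalIdeal (AdicCompletion (maximalIdeal A) A),
      z * algebraMap A _ (x ^ k) = a * t := by
    have h1 : a * t ∈ maximalIdeal (AdicCompletion (maximalIdeal A) A) *
        Ideal.span {algebraMap A (AdicCompletion (maximalIdeal A) A) (x ^ k)} := by
      rw [Ideal.map_pow, ← hmax, pow_succ'] at ha
      refine Submodule.mul_induction_on ha (fun u hu v hv => ?_) (fun u v hu hv => by rw [add_mul]; exact add_mem hu hv)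
      rw [mul_assoc]
      have := htmul v hv
      rw [Ideal.map_span, Set.image_singleton] at this
      exact Ideal.mul_mem_mul hu this
    exact Ideal.mem_mul_span_singleton.1 h1
  have ha' : a ∈ maximalIdeal (AdicCompletion (maximalIdeal A) A) := by
    rw [Ideal.map_pow, ← hmax] at ha
    exact Ideal.pow_le_self (Nat.succ_ne_zero k) ha
  have h2 : algebraMap A (AdicCompletion (maximalIdeal A) A) (t₀ ^ 2 - x ^ k * t₀) =
      algebraMap A _ ((x ^ k) ^ 2) * (a ^ 2 + a - 2 * z) := by
    have ht0 : algebraMap A _ t₀ = t - algebraMap A _ (x ^ k) * a := by rw [hta]; ring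
    rw [map_sub, map_mul, map_pow _ t₀, map_pow _ (x ^ k), ht0]
    linear_combination htt + 2 * algebraMap A _ (x ^ k) * hzt
  have h3 : t₀ ^ 2 - x ^ k * t₀ ∈ Ideal.span {(x ^ k) ^ 2} := by
    haveI : Module.FaithfullyFlat A (AdicCompletion (maximalIdeal A) A) :=
      Module.FaithfullyFlat.of_flat_of_isLocalHom
    rw [← Ideal.comap_map_eq_self_of_faithfullyFlat (B := AdicCompletion (maximalIdeal A) A)
      (Ideal.span {(x ^ k) ^ 2}), Ideal.mem_comap, h2, Ideal.map_span, Set.image_singleton]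
    exact Ideal.mul_mem_right _ _ (Ideal.mem_span_singleton_self _)
  obtain ⟨c, hc⟩ := Ideal.mem_span_singleton.1 h3
  have hcm : c ∈ maximalIdeal A := by
    rw [hc, map_mul] at h2
    have h4 := mem_nonZeroDivisors_iff_right.1
      (mem_nonZeroDivisors_algebraMap (S := AdicCompletion (maximalIdeal A) A) (pow_ne_zero 2 hy))
      (algebraMap A _ c - (a ^ 2 + a - 2 * z)) (by rw [mul_comm, mul_sub, h2, sub_self])
    rw [sub_eq_zero] at h4
    have hm' : a ^ 2 + a - 2 * z ∈ maximalIdeal (AdicCompletion (maximalIdeal A) A) :=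
      sub_mem (add_mem (Ideal.pow_mem_of_mem _ ha' 2 two_pos) ha') (Ideal.mul_mem_left _ _ hz)
    rw [← h4] at hm'
    by_contra hcu
    exact (IsLocalRing.mem_maximalIdeal _).1 hm' ((IsLocalRing.notMem_maximalIdeal.1 hcu).map _)
  have htP : t ∉ P := fun htP => by
    have hxP : algebraMap A _ (x ^ k) ∈ P := by
      rw [← hst]
      refine add_mem ?_ htP
      exact Ideal.pow_le_self hM.ne' hs
    exact algebraMap_not_mem_minimal hP hy hxP
  exact ⟨M, x ^ k, t₀, c, t, a, hy, hcm, hmax ▸ ha', hta, fun z hz => hzero z hz t ht, hc, htt, htP⟩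

/-- In a universally catenary local domain of dimension at least two no component of the completion has dimension one. -/
theorem dim_le_one_of_component {A : Type u} [CommRing A] [IsLocalRing A] [IsNoetherianRing A] [IsDomain A]
    (hA : CAlg.IsUniversallyCatenary A) (P : Ideal (AdicCompletion (maximalIdeal A) A))
    (hP : P ∈ minimalPrimes (AdicCompletion (maximalIdeal A) A)) [hPp : P.IsPrime]
    (h1 : coheight (⟨P, hPp⟩ : PrimeSpectrum (AdicCompletion (maximalIdeal A) A)) ≤ 1) :
    ringKrullDim A ≤ 1 := by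
  obtain ⟨_, _, _, _, hmax⟩ := compl_facts A
  haveI : Module.FaithfullyFlat A (AdicCompletion (maximalIdeal A) A) :=
    Module.FaithfullyFlat.of_flat_of_isLocalHom
  by_cases hbot : maximalIdeal A = ⊥
  · rw [← maximalIdeal_height_eq_ringKrullDim, hbot, Ideal.height_bot]
    exact zero_le_one
  obtain ⟨x, hxm, hx0⟩ := (Submodule.ne_bot_iff _).1 hbot
  obtain ⟨M, y, t₀, c, t, a, hy, hcm, ha, hta, hPt, hc, htt, htP⟩ := exists_approx_idempotent P hP h1 x hxm hx0
  have hyK : algebraMap A (FractionRing A) y ≠ 0 :=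
    (map_ne_zero_iff _ (IsFractionRing.injective A (FractionRing A))).2 hy
  obtain ⟨β, hβy⟩ : ∃ β : FractionRing A, β * algebraMap A _ y = algebraMap A _ t₀ :=
    ⟨algebraMap A _ t₀ / algebraMap A _ y, div_mul_cancel₀ _ hyK⟩
  have hβ : β ^ 2 - β = algebraMap A (FractionRing A) c := by
    have h2 := congrArg (algebraMap A (FractionRing A)) hc
    simp only [map_sub, map_mul, map_pow, ← hβy] at h2
    exact mul_left_cancel₀ (pow_ne_zero 2 hyK) (by linear_combination h2)
  have hlin : ∀ u v : A, algebraMap A (FractionRing A) u * β + algebraMap A (FractionRing A) v = 0 →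
      u + v ∈ maximalIdeal A := by
    intro u v huv
    have h4 : u * t₀ + v * y = 0 := by
      apply IsFractionRing.injective A (FractionRing A)
      rw [map_add, map_mul, map_mul, map_zero, ← hβy]
      linear_combination algebraMap A (FractionRing A) y * huv
    have h7 := congrArg (fun z => algebraMap A (AdicCompletion (maximalIdeal A) A) z * t) h4
    simp only [map_add, map_mul, map_zero, zero_mul] at h7
    have ht0 : algebraMap A _ t₀ = t - algebraMap A _ y * a := by rw [hta]; ring
    have h8 : (algebraMap A _ u + algebraMap A _ v - algebraMap A _ u * a) * t = 0 := by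
      apply mem_nonZeroDivisors_iff_right.1
        (mem_nonZeroDivisors_algebraMap (S := AdicCompletion (maximalIdeal A) A) hy)
      linear_combination h7 - algebraMap A _ u * htt - algebraMap A _ u * t * ht0
    have h9 := (hPp.mem_or_mem (h8 ▸ P.zero_mem)).resolve_right htP
    have h10 : algebraMap A (AdicCompletion (maximalIdeal A) A) (u + v) ∈
        maximalIdeal (AdicCompletion (maximalIdeal A) A) := by
      rw [map_add, show algebraMap A (AdicCompletion (maximalIdeal A) A) u + algebraMap A _ v =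
        (algebraMap A _ u + algebraMap A _ v - algebraMap A _ u * a) + algebraMap A _ u * a by ring]
      exact add_mem (le_maximalIdeal hPp.ne_top h9) (Ideal.mul_mem_left _ _ (hmax.ge ha))
    by_contra hu
    exact (IsLocalRing.mem_maximalIdeal _).1 h10 ((IsLocalRing.notMem_maximalIdeal.1 hu).map _)
  obtain ⟨N, hNmax, hNover, hXN, hNmem⟩ := exists_residue_point (A := A)
  haveI := hNmax
  haveI hq : (RingHom.ker (Polynomial.aeval (R := A) β)).IsPrime := RingHom.ker_isPrime _
  have hqN : RingHom.ker (Polynomial.aeval (R := A) β) ≤ N := fun f hf =>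
    (hNmem f).2 (ker_le_residue_point hcm hβ hlin f hf)
  have h0 : (RingHom.ker (Polynomial.aeval (R := A) β)).comap (Polynomial.C : A →+* Polynomial A) = ⊥ := by
    refine le_bot_iff.1 fun r hr => ?_
    rw [Ideal.mem_comap, RingHom.mem_ker, Polynomial.aeval_C] at hr
    exact (map_eq_zero_iff _ (IsFractionRing.injective A (FractionRing A))).1 hr
  refine (dim_le_height_of_polynomial hA (RingHom.ker (Polynomial.aeval (R := A) β)) N hqN h0 hNover).trans ?_
  haveI : Module.Finite A (Polynomial A ⧸ RingHom.ker (Polynomial.aeval (R := A) β)) :=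
    finite_quotient_of_monic _ (monic_quadratic c).1 (quadratic_eval hβ)
  haveI : (N.map (Ideal.Quotient.mk (RingHom.ker (Polynomial.aeval (R := A) β)))).IsPrime :=
    Ideal.map_isPrime_of_surjective Ideal.Quotient.mk_surjective (by rwa [Ideal.mk_ker])
  refine (WithBot.coe_le_coe.2 (height_le_one (S := AdicCompletion (maximalIdeal A) A) hmax P h1 M y t₀ ?_
    (Ideal.Quotient.mk _ Polynomial.X) ?_ t a hta (hmax.ge ha) hPt _ ?_ ?_)).trans le_rfl
  · intro h
    have h' : Polynomial.C y ∈ RingHom.ker (Polynomial.aeval (R := A) β) := Ideal.Quotient.eq_zero_iff_mem.1 h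
    rw [RingHom.mem_ker, Polynomial.aeval_C] at h'
    exact hyK h'
  · rw [show algebraMap A (Polynomial A ⧸ RingHom.ker (Polynomial.aeval (R := A) β)) y =
      Ideal.Quotient.mk _ (Polynomial.C y) from rfl,
      show algebraMap A (Polynomial A ⧸ RingHom.ker (Polynomial.aeval (R := A) β)) t₀ =
      Ideal.Quotient.mk _ (Polynomial.C t₀) from rfl, ← map_mul, Ideal.Quotient.eq, RingHom.mem_ker]
    simp only [map_sub, map_mul, Polynomial.aeval_X, Polynomial.aeval_C, hβy, sub_self]
  · rw [Ideal.map_le_iff_le_comap]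
    intro r hr
    refine Ideal.mem_map_of_mem _ ?_
    show algebraMap A (Polynomial A) r ∈ N
    rw [Polynomial.algebraMap_eq, ← Ideal.mem_comap, hNover]
    exact hr
  · intro h
    rw [Ideal.mem_quotient_iff_mem_sup, sup_eq_left.2 hqN] at h
    exact hXN h

end Groth.Agent.RatliffLib
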