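import Mathlib
import Groth.Agent.RatliffLib.Converse.Component

/-!
Ratliff: a universally catenary Noetherian local ring is formally catenary.
-/

set_option autoImplicit false

universe u

open IsLocalRing Order

namespace Groth.Agent.RatliffLib

theorem isFormallyEquidim_of_universallyCatenary_aux :
    ∀ (d : ℕ) {A : Type u} [CommRing A] [IsLocalRing A] [IsNoetherianRing A] [IsDomain A],
      CAlg.IsUniversallyCatenary A → height (closedPoint A) ≤ d → EGA4.IsFormallyEquidim A := by
  intro d
  induction d using Nat.strong_induction_on with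
  | _ d ih => ?_
  intro A _ _ _ _ hA hd P hP
  obtain ⟨_, _, _, _, hmax⟩ := compl_facts A
  haveI hPp := hP.1.1
  let Ah := AdicCompletion (maximalIdeal A) A
  haveI : Module.FaithfullyFlat A Ah := Module.FaithfullyFlat.of_flat_of_isLocalHom
  obtain ⟨D, hD⟩ := ENat.ne_top_iff_exists.mp (height_ne_top' (closedPoint A))
  obtain ⟨r, hr⟩ := ENat.ne_top_iff_exists.mp (CatLib.coheight_ne_top (⟨P, hPp⟩ : PrimeSpectrum Ah))
  have hdimA : ringKrullDim Ah = ((D : ℕ∞) : WithBot ℕ∞) := by
    rw [RegLocal.ringKrullDim_completion A _ (maximalIdeal.isMaximal A).ne_top, dim_eq_height_closedPoint, hD]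
  rw [CatLib.ringKrullDim_quotient_eq_coheight ⟨P, hPp⟩, ← hr]
  refine le_antisymm ?_ ?_
  · rw [hr, ← CatLib.ringKrullDim_quotient_eq_coheight ⟨P, hPp⟩]
    exact ringKrullDim_quotient_le P
  rw [hdimA]
  refine WithBot.coe_le_coe.2 (Nat.cast_le.2 ?_)
  by_contra hlt
  push Not at hlt
  -- nonzero elements of `A` avoid minimal primes
  have hreg : ∀ y : A, y ≠ 0 → ∀ Q ∈ minimalPrimes Ah, algebraMap A Ah y ∉ Q := fun y hy Q hQ hmem =>
    Set.disjoint_left.1 (Ideal.disjoint_nonZeroDivisors_of_mem_minimalPrimes hQ) hmem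
      (mem_nonZeroDivisors_iff_right.2 fun z hz =>
        Module.Flat.isSMulRegular_of_nonZeroDivisors (M := Ah) (mem_nonZeroDivisors_of_ne_zero hy) (Eq.trans (by
          show y • z = 0
          rw [Algebra.smul_def, mul_comm, hz]) (smul_zero y).symm))
  rcases Nat.lt_or_ge r 2 with hr2 | hr2
  · -- components of dimension at most one
    rcases Nat.eq_zero_or_pos r with rfl | hrpos
    · obtain ⟨y, hym, hy0⟩ : ∃ y ∈ maximalIdeal A, y ≠ 0 := by
        refine (Submodule.ne_bot_iff _).1 fun hb => ?_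
        have : height (closedPoint A) = 0 := by
          rw [← PrimeSpectrum.height_eq_orderHeight]
          show (maximalIdeal A).height = 0
          rw [hb, Ideal.height_bot]
        rw [← hD, Nat.cast_eq_zero] at this
        omega
      have hPm : maximalIdeal Ah ≤ P :=
        (coheight_eq_zero.1 (by rw [← hr, Nat.cast_zero]) : IsMax (⟨P, hPp⟩ : PrimeSpectrum Ah))
          (b := closedPoint Ah) (le_maximalIdeal hPp.ne_top)
      exact hreg y hy0 P hP (hPm (hmax ▸ Ideal.mem_map_of_mem _ hym))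
    · have hr1 : r = 1 := by omega
      have h1 := dim_le_one_of_component hA P hP (by rw [← hr, hr1]; exact le_rfl)
      rw [dim_eq_height_closedPoint, ← hD] at h1
      have h2 : D ≤ 1 := by exact_mod_cast h1
      omega
  · -- cut down by a height one prime
    have hfin : (minimalPrimes Ah).Finite := minimalPrimes.finite_of_isNoetherianRing Ah
    let bad : Set (Ideal Ah) := ⋃ P' ∈ minimalPrimes Ah \ {P}, (P ⊔ P').minimalPrimes
    have hbadfin : bad.Finite :=
      (hfin.subset Set.sdiff_subset).biUnion fun P' _ => Ideal.finite_minimalPrimes_of_isNoetherianRing Ah _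
    -- an element avoiding the bad primes of positive coheight
    let badA : Set (Ideal A) := (fun Q : Ideal Ah => Q.comap (algebraMap A Ah)) '' {Q ∈ bad | Q ≠ maximalIdeal Ah} ∪ {⊥}
    have hbadA : ∀ q ∈ badA, q.IsPrime ∧ ¬ maximalIdeal A ≤ q := by
      rintro q (⟨Q, ⟨hQb, hQm⟩, rfl⟩ | rfl)
      · simp only [bad, Set.mem_iUnion] at hQb
        obtain ⟨P', -, hQ⟩ := hQb
        haveI := hQ.1.1
        refine ⟨Ideal.IsPrime.comap _, fun hle => hQm (le_antisymm (le_maximalIdeal hQ.1.1.ne_top) ?_)⟩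
        rw [hmax]
        exact Ideal.map_le_iff_le_comap.2 hle
      · refine ⟨Ideal.isPrime_bot, fun hle => ?_⟩
        have h0 : height (closedPoint A) = 0 := by
          rw [← PrimeSpectrum.height_eq_orderHeight]
          show (maximalIdeal A).height = 0
          rw [le_bot_iff.1 hle, Ideal.height_bot]
        rw [← hD, Nat.cast_eq_zero] at h0
        omega
    have hbadAfin : badA.Finite := ((hbadfin.subset fun Q hQ => hQ.1).image _).union (Set.finite_singleton _)
    obtain ⟨y, hym, hy⟩ : ∃ y ∈ maximalIdeal A, ∀ q ∈ badA, y ∉ q := by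
      by_contra hall
      push Not at hall
      have hsub : (maximalIdeal A : Set A) ⊆ ⋃ q ∈ badA, (q : Set A) := fun a ha => by
        obtain ⟨q, hq, haq⟩ := hall a ha
        exact Set.mem_biUnion hq haq
      obtain ⟨q, hq, hle⟩ := (Ideal.subset_union_prime_finite hbadAfin ⊥ ⊥ fun q hq _ _ => (hbadA q hq).1).1 hsub
      exact (hbadA q hq).2 hle
    have hy0 : y ≠ 0 := fun h => hy ⊥ (Or.inr rfl) (h ▸ Submodule.zero_mem _)
    have hsupne : P ⊔ Ideal.span {algebraMap A Ah y} ≠ ⊤ := fun h => (maximalIdeal.isMaximal Ah).ne_top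
      (top_le_iff.1 (h ▸ sup_le (le_maximalIdeal hPp.ne_top) ((Ideal.span_singleton_le_iff_mem _).2
        (hmax ▸ Ideal.mem_map_of_mem _ hym))))
    obtain ⟨Q, hQ⟩ := Ideal.nonempty_minimalPrimes hsupne
    haveI hQp := hQ.1.1
    have hyQ : algebraMap A Ah y ∈ Q := hQ.1.2 (Ideal.mem_sup_right (Ideal.mem_span_singleton_self _))
    -- `Q` has height one over `P`
    have hQP1 : (Q.map (Ideal.Quotient.mk P)).height ≤ 1 := by
      refine Ideal.height_le_one_of_isPrincipal_of_mem_minimalPrimes
        (Ideal.span {Ideal.Quotient.mk P (algebraMap A Ah y)}) _ ?_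
      rw [show Ideal.span {Ideal.Quotient.mk P (algebraMap A Ah y)} =
        (P ⊔ Ideal.span {algebraMap A Ah y}).map (Ideal.Quotient.mk P) by
          rw [Ideal.map_sup, Ideal.map_quotient_self, bot_sup_eq, Ideal.map_span, Set.image_singleton],
        Ideal.minimalPrimes_map_of_surjective Ideal.Quotient.mk_surjective]
      refine ⟨Q, ?_, rfl⟩
      rwa [Ideal.mk_ker, sup_eq_left.2 le_sup_left]
    have hbetween : ∀ Q' : PrimeSpectrum Ah, P < Q'.asIdeal → Q'.asIdeal < Q → False := by
      intro Q' h1 h2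
      haveI : (Q'.asIdeal.map (Ideal.Quotient.mk P)).IsPrime :=
        Ideal.map_isPrime_of_surjective Ideal.Quotient.mk_surjective (by rw [Ideal.mk_ker]; exact h1.le)
      haveI : (Q.map (Ideal.Quotient.mk P)).IsPrime :=
        Ideal.map_isPrime_of_surjective Ideal.Quotient.mk_surjective (by rw [Ideal.mk_ker]; exact (h1.trans h2).le)
      have hlt : Q'.asIdeal.map (Ideal.Quotient.mk P) < Q.map (Ideal.Quotient.mk P) := by
        refine lt_of_le_of_ne (Ideal.map_mono h2.le) fun h => h2.ne ?_
        have := congrArg (Ideal.comap (Ideal.Quotient.mk P)) h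
        rwa [Ideal.comap_map_of_surjective _ Ideal.Quotient.mk_surjective,
          Ideal.comap_map_of_surjective _ Ideal.Quotient.mk_surjective, ← RingHom.ker_eq_comap_bot, Ideal.mk_ker,
          sup_eq_left.2 h1.le, sup_eq_left.2 (h1.trans h2).le] at this
      have h0 : (Q'.asIdeal.map (Ideal.Quotient.mk P)).height ≠ 0 := fun h => h1.ne' (by
        rw [Ideal.height_eq_zero_iff_eq_bot, Ideal.map_eq_bot_iff_le_ker, Ideal.mk_ker] at h
        exact le_antisymm h h1.le)
      obtain ⟨a, ha⟩ := ENat.ne_top_iff_exists.mp (Ideal.height_ne_top (I := Q'.asIdeal.map (Ideal.Quotient.mk P))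
        (Ideal.IsPrime.ne_top inferInstance))
      have h3 := (Ideal.height_strict_mono_of_isPrime hlt).trans_le hQP1
      rw [← ha] at h3 h0
      have h5 : a < 1 := by exact_mod_cast h3
      have h4 : a ≠ 0 := fun h => h0 (by rw [h]; rfl)
      omega
    have hrQ : Q ≠ maximalIdeal Ah := by
      intro hQm
      obtain ⟨-, ⟨z, hz, hzn⟩, -⟩ := coheight_eq_coe_add_one_iff.mp
        (show coheight (⟨P, hPp⟩ : PrimeSpectrum Ah) = ((r - 1 : ℕ) : ℕ∞) + 1 by
          rw [← hr]
          exact_mod_cast (by omega : r = r - 1 + 1))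
      refine hbetween z hz (lt_of_le_of_ne (hQm ▸ le_maximalIdeal z.isPrime.ne_top) fun h => ?_)
      have hzmax : z = closedPoint Ah := PrimeSpectrum.ext (h.trans hQm)
      have h1 : coheight z = 0 := coheight_eq_zero.2 (by
        rw [hzmax]; exact fun w _ => le_maximalIdeal w.isPrime.ne_top)
      rw [hzn, Nat.cast_eq_zero] at h1
      omega
    -- every prime below `Q` in a chain of length one is `P`
    have honly : ∀ P' ∈ minimalPrimes Ah, P' ≤ Q → P' = P := by
      intro P' hP' hle
      by_contra hne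
      have hQb : Q ∈ bad := by
        simp only [bad, Set.mem_iUnion]
        refine ⟨P', ⟨hP', hne⟩, ⟨⟨hQp, sup_le (le_sup_left.trans hQ.1.2) hle⟩, fun T hT hTQ => ?_⟩⟩
        by_contra hne'
        refine hbetween ⟨T, hT.1⟩ (lt_of_le_of_ne (le_sup_left.trans hT.2) fun h => hne ?_)
          (lt_of_le_of_ne hTQ fun h => hne' h.ge)
        exact le_antisymm (h ▸ le_sup_right.trans hT.2) (hP.2 ⟨hP'.1.1, bot_le⟩ (h ▸ le_sup_right.trans hT.2))
      exact hy _ (Or.inl ⟨Q, ⟨hQb, hrQ⟩, rfl⟩) hyQ
    have hQmin : ∀ Q' : PrimeSpectrum Ah, Q'.asIdeal ≤ Q → algebraMap A Ah y ∈ Q'.asIdeal → Q'.asIdeal = Q := by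
      intro Q' hle hyQ'
      obtain ⟨P', hP', hP'Q⟩ := Ideal.exists_minimalPrimes_le (I := (⊥ : Ideal Ah)) (J := Q'.asIdeal) bot_le
      obtain rfl := honly P' hP' (hP'Q.trans hle)
      exact le_antisymm hle (hQ.2 ⟨Q'.isPrime, sup_le hP'Q ((Ideal.span_singleton_le_iff_mem _).2 hyQ')⟩ hle)
    let p : Ideal A := Q.under A
    have hyp : y ∈ p := hyQ
    have hQmin' : Q ∈ (p.map (algebraMap A Ah)).minimalPrimes :=
      ⟨⟨hQp, Ideal.map_le_iff_le_comap.2 le_rfl⟩, fun T hT hTQ =>
        (hQmin ⟨T, hT.1⟩ hTQ (hT.2 (Ideal.mem_map_of_mem _ hyp))).ge⟩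
    have hp1 : p.height = 1 := by
      refine le_antisymm ?_ ?_
      · rw [← height_eq_of_minimal hQmin']
        refine Ideal.height_le_one_of_isPrincipal_of_mem_minimalPrimes (Ideal.span {algebraMap A Ah y}) Q ?_
        exact ⟨⟨hQp, (Ideal.span_singleton_le_iff_mem _).2 hyQ⟩, fun T hT hTQ =>
          (hQmin ⟨T, hT.1⟩ hTQ (hT.2 (Ideal.mem_span_singleton_self _))).ge⟩
      · exact Order.one_le_iff_ne_zero.2 fun h => hy0 (by
          rw [Ideal.height_eq_zero_iff_eq_bot] at h
          simpa [h] using hyp)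
    have heqA : EGA4.IsEquidim A := fun s hs => by
      rw [IsDomain.minimalPrimes_eq_singleton_bot, Set.mem_singleton_iff] at hs
      rw [hs]
      exact ringKrullDim_eq_of_ringEquiv (RingEquiv.quotientBot _)
    have hkey := height_add_coheight heqA (isCatenary_of_isUniversallyCatenary hA) ⟨p, inferInstance⟩
    rw [← PrimeSpectrum.height_eq_orderHeight, ← hD] at hkey
    obtain ⟨e, he⟩ := ENat.ne_top_iff_exists.mp (CatLib.coheight_ne_top (⟨p, inferInstance⟩ : PrimeSpectrum A))
    rw [show (⟨p, inferInstance⟩ : PrimeSpectrum A).asIdeal = p from rfl, hp1, ← he] at hkey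
    have hkey' : 1 + e = D := by exact_mod_cast hkey
    haveI : IsLocalRing (A ⧸ p) := IsLocalRing.of_surjective' _ Ideal.Quotient.mk_surjective
    have hcl : height (closedPoint (A ⧸ p)) = e := by
      apply WithBot.coe_injective
      rw [← dim_eq_height_closedPoint, CatLib.ringKrullDim_quotient_eq_coheight ⟨p, inferInstance⟩, ← he]
    rw [← hD, Nat.cast_le] at hd
    have hfe := ih e (by omega) (A := A ⧸ p)
      (isUniversallyCatenary_of_surjective (Ideal.Quotient.mk p) Ideal.Quotient.mk_surjective hA) hcl.le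
    obtain ⟨eq, -⟩ := CMCat.exists_complQuotEquiv p
    have hEJ := CMCat.isEquidim_of_ringEquiv eq.symm hfe
    let J := p.map (algebraMap A Ah)
    have hq : Q.map (Ideal.Quotient.mk J) ∈ (⊥ : Ideal (Ah ⧸ J)).minimalPrimes := by
      rw [← Ideal.map_quotient_self J, Ideal.minimalPrimes_map_of_surjective Ideal.Quotient.mk_surjective]
      exact ⟨Q, by rwa [Ideal.mk_ker, sup_idem], rfl⟩
    have hdimQ := hEJ _ hq
    have e1 : ringKrullDim (Ah ⧸ J) = ((e : ℕ∞) : WithBot ℕ∞) :=
      (ringKrullDim_eq_of_ringEquiv eq).trans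
        ((RegLocal.ringKrullDim_completion (A ⧸ p) _ (maximalIdeal.isMaximal _).ne_top).trans
          (dim_eq_height_closedPoint.trans (by rw [hcl])))
    rw [ringKrullDim_eq_of_ringEquiv (DoubleQuot.quotQuotEquivQuotOfLE hQmin'.1.2), e1,
      CatLib.ringKrullDim_quotient_eq_coheight ⟨Q, hQp⟩, WithBot.coe_inj] at hdimQ
    have hPQ : (⟨P, hPp⟩ : PrimeSpectrum Ah) < ⟨Q, hQp⟩ :=
      lt_of_le_of_ne (show P ≤ Q from le_sup_left.trans hQ.1.2) fun h =>
        hreg y hy0 P hP (by rw [show P = Q from congrArg PrimeSpectrum.asIdeal h]; exact hyQ)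
    have hfinal := coheight_add_one_le hPQ
    rw [hdimQ, ← hr] at hfinal
    have : e + 1 ≤ r := by exact_mod_cast hfinal
    omega

/-- Universally catenary local domains are formally equidimensional. -/
theorem isFormallyEquidim_of_universallyCatenary {A : Type u} [CommRing A] [IsLocalRing A] [IsNoetherianRing A]
    [IsDomain A] (hA : CAlg.IsUniversallyCatenary A) : EGA4.IsFormallyEquidim A := by
  obtain ⟨D, hD⟩ := ENat.ne_top_iff_exists.mp (height_ne_top' (closedPoint A))
  exact isFormallyEquidim_of_universallyCatenary_aux D hA hD.ge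

/-- Universally catenary local rings are formally catenary. -/
theorem isFormallyCatenary_of_universallyCatenary {A : Type u} [CommRing A] [IsLocalRing A] [IsNoetherianRing A]
    (hA : CAlg.IsUniversallyCatenary A) : EGA4.IsFormallyCatenary A := by
  intro p _
  haveI : IsLocalRing (A ⧸ p) := IsLocalRing.of_surjective' _ Ideal.Quotient.mk_surjective
  exact isFormallyEquidim_of_universallyCatenary
    (isUniversallyCatenary_of_surjective (Ideal.Quotient.mk p) Ideal.Quotient.mk_surjective hA)

end Groth.Agent.RatliffLib
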